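import Groth.Agent.H13AlgSp.FpqcSheaf
import Groth.Agent.H12AlgSp.LocP
import Mathlib.AlgebraicGeometry.Sites.Fpqc
import Mathlib.CategoryTheory.Sites.Over

/-!
Algebraic spaces are sheaves for the fpqc topology on schemes over the base.
-/

set_option autoImplicit false
set_option backward.isDefEq.respectTransparency false
set_option linter.style.haveILetI false

universe u

open CategoryTheory CategoryTheory.Limits AlgebraicGeometry Opposite
open AlgSp Groth.Agent.H13AlgSp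

namespace Groth.Agent.H12AlgSp.Fpqc

variable {S : Scheme.{u}}

/-- Sections over a scheme are the morphisms from it, naturally. -/
theorem equiv_comp {F : Sp S} {A A' : Over S} (e : A' ⟶ A) (a : (yon S).obj A ⟶ F) :
    (J S).uliftYonedaEquiv ((yon S).map e ≫ a) = F.obj.map e.op ((J S).uliftYonedaEquiv a) :=
  (GrothendieckTopology.uliftYonedaEquiv_naturality _ _ _).symm

/-- An affine open of a flat quasi-compact cover is covered by finitely many affine schemes over it. -/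
theorem exists_affine_covering {X Y : Over S} (f : Y ⟶ X) {R : Presieve X}
    (hR : R ∈ Scheme.fpqcPrecoverage.comap (Over.forget S) X) {B : Y.left.Opens} (hB : IsAffineOpen B)
    {U : X.left.Opens} (hU : IsAffineOpen U) (hBU : B ≤ f.left ⁻¹ᵁ U) :
    ∃ (n : ℕ) (W : Fin n → Over S) (g : ∀ k, W k ⟶ Y) (c : ∀ k, (W k).left ⟶ B.toScheme),
      (∀ k, IsAffine (W k).left) ∧ (∀ k, Flat (c k)) ∧ (∀ k, c k ≫ B.ι = (g k).left) ∧
      (∀ b : B.toScheme, ∃ k, b ∈ Set.range (c k)) ∧ ∀ k, Sieve.generate R (g k ≫ f) := by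
  obtain ⟨𝒰, h𝒰, he⟩ := Scheme.mem_propQCPrecoverage_iff_exists_quasiCompactCover.1 hR
  haveI := h𝒰
  obtain ⟨n, idx, V, hV, hcov⟩ :=
    QuasiCompactCover.exists_isAffineOpen_of_isCompact 𝒰.toPreZeroHypercover hU.isCompact
  have hmem : ∀ k, ∃ (D : Over S) (v : D ⟶ X), R v ∧ ∃ h : D.left = 𝒰.X (idx k), v.left = eqToHom h ≫ 𝒰.f (idx k) := by
    intro k
    have hm : R.map (Over.forget S) (𝒰.f (idx k)) := by
      rw [he]
      exact ⟨idx k⟩
    obtain ⟨D, h, v, hv, hv'⟩ := Presieve.map_iff.1 hm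
    exact ⟨D, v, hv, h, hv'⟩
  choose D v hv hD hv' using hmem
  have hle : ∀ k, V k ≤ 𝒰.f (idx k) ⁻¹ᵁ U := fun k x hx => hcov.le (Set.mem_iUnion.2 ⟨k, x, hx, rfl⟩)
  haveI : ∀ k, Flat (𝒰.f (idx k)) := fun k => 𝒰.map_prop (idx k)
  let a : ∀ k, (V k).toScheme ⟶ U.toScheme := fun k => (𝒰.f (idx k)).resLE U (V k) (hle k)
  haveI : ∀ k, Flat (a k) := fun k => by
    change Flat ((𝒰.f (idx k)).resLE U (V k) (hle k))
    rw [Scheme.Hom.resLE]
    infer_instance
  let b : B.toScheme ⟶ U.toScheme := f.left.resLE U B hBU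
  haveI : ∀ k, IsAffine (V k).toScheme := hV
  haveI : IsAffine B.toScheme := hB
  haveI : IsAffine U.toScheme := hU
  let c : ∀ k, pullback (a k) b ⟶ B.toScheme := fun k => pullback.snd (a k) b
  let W : Fin n → Over S := fun k => Over.mk (c k ≫ B.ι ≫ Y.hom)
  let g : ∀ k, W k ⟶ Y := fun k => Over.homMk (c k ≫ B.ι) (Category.assoc _ _ _)
  refine ⟨n, W, g, c, fun k => inferInstanceAs (IsAffine (pullback (a k) b)), fun k =>
    MorphismProperty.pullback_snd _ _ inferInstance, fun k => rfl, fun x => ?_, fun k => ?_⟩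
  · obtain ⟨k, y, hy, hxy⟩ := Set.mem_iUnion.1 (hcov.ge (b x).2)
    obtain ⟨z, -, hz⟩ := Scheme.exists_preimage_of_isPullback (IsPullback.of_hasPullback (a k) b) ⟨y, hy⟩ x
      (Subtype.ext (((Scheme.Hom.comp_apply _ U.ι _).symm.trans
        (congr($(Scheme.Hom.resLE_comp_ι (𝒰.f (idx k)) (hle k)) (⟨y, hy⟩ : (V k).toScheme)))).trans hxy))
    exact ⟨k, z, hz⟩
  · have he : (g k ≫ f).left = (pullback.fst (a k) b ≫ (V k).ι ≫ eqToHom (hD k).symm) ≫ (v k).left := by
      rw [hv']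
      simp only [g, Over.comp_left, Over.homMk_left, Category.assoc, eqToHom_trans_assoc, eqToHom_refl,
        Category.id_comp]
      rw [← Scheme.Hom.resLE_comp_ι f.left hBU, ← Scheme.Hom.resLE_comp_ι (𝒰.f (idx k)) (hle k),
        ← Category.assoc, ← Category.assoc, pullback.condition]
    let l : W k ⟶ D k := Over.homMk (pullback.fst (a k) b ≫ (V k).ι ≫ eqToHom (hD k).symm) (by
      rw [← Over.w (v k), ← Category.assoc, ← he, Over.comp_left, Category.assoc, Over.w f]
      exact Over.w (g k))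
    exact ⟨D k, l, v k, hv k, (Over.OverMorphism.ext he).symm⟩

/-- Sieves pulled back from the quasi-compact flat covers contain a small fpqc cover. -/
theorem exists_fpqcFamily {X Y : Over S} (f : Y ⟶ X) {R : Presieve X}
    (hR : R ∈ Scheme.fpqcPrecoverage.comap (Over.forget S) X) :
    ∃ (ι : Type u) (W : ι → Over S) (g : ∀ i, W i ⟶ Y), (∀ i, Sieve.generate R (g i ≫ f)) ∧
      IsFpqcCover (fun i => (yon S).obj (W i)) (fun i => (yon S).map (g i)) := by
  classical
  let I := {B : Y.left.affineOpens // ∃ U : X.left.Opens, IsAffineOpen U ∧ B.1 ≤ f.left ⁻¹ᵁ U}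
  choose U hU hBU using fun B : I => B.2
  choose n W g c hWA hc hcg hcov hgen using fun B : I => exists_affine_covering f hR B.1.2 (hU B) (hBU B)
  refine ⟨Σ B : I, Fin (n B), fun i => W i.1 i.2, fun i => g i.1 i.2, fun i => hgen _ _, fun i => ?_, ?_⟩
  · haveI := hc i.1 i.2
    refine locP_of_repWith etLocal_flat ((repWith_yon_map_iff _ _).2 ?_)
    rw [← hcg i.1 i.2]
    infer_instance
  intro Z hZ h'
  obtain ⟨h, rfl⟩ := (yon S).map_surjective h'
  haveI := hZ
  have hpt : ∀ z : Z.left, ∃ (B : I) (P : Z.left.Opens), IsAffineOpen P ∧ z ∈ P ∧ P ≤ h.left ⁻¹ᵁ B.1.1 := by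
    intro z
    obtain ⟨U', hU', hyU, -⟩ := exists_isAffineOpen_mem_and_subset (TopologicalSpace.Opens.mem_top (f.left (h.left z)))
    obtain ⟨B', hB', hzB, hBU'⟩ := exists_isAffineOpen_mem_and_subset (X := Y.left) (U := f.left ⁻¹ᵁ U') (x := h.left z) hyU
    obtain ⟨P, hP, hzP, hPB⟩ := exists_isAffineOpen_mem_and_subset (X := Z.left) (U := h.left ⁻¹ᵁ B') (x := z) hzB
    exact ⟨⟨⟨B', hB'⟩, U', hU', hBU'⟩, P, hP, hzP, hPB⟩
  choose B P hP hzP hPB using hpt
  obtain ⟨T, hT⟩ := isCompact_univ.elim_finite_subcover (fun z => (P z : Set Z.left)) (fun z => (P z).2)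
    fun z _ => Set.mem_iUnion.2 ⟨z, hzP z⟩
  let K := Σ z : T, Fin (n (B z))
  let e := Fintype.equivFin K
  haveI : ∀ z, IsAffine (P z).toScheme := hP
  haveI : ∀ z : I, IsAffine z.1.1.toScheme := fun z => z.1.2
  haveI := hWA
  let r : ∀ z, (P z).toScheme ⟶ (B z).1.1.toScheme := fun z => h.left.resLE _ _ (hPB z)
  let Q : K → Over S := fun k => Over.mk (pullback.snd (c (B k.1) k.2) (r k.1) ≫ (P k.1.1).ι ≫ Z.hom)
  let q : ∀ k, Q k ⟶ Z := fun k => Over.homMk (pullback.snd (c (B k.1) k.2) (r k.1) ≫ (P k.1.1).ι) (Category.assoc _ _ _)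
  refine ⟨Fintype.card K, fun j => Q (e.symm j), fun j => q (e.symm j), fun j => ?_, fun j => ?_, fun z => ?_,
    fun j => ?_⟩
  · exact inferInstanceAs (IsAffine (pullback _ _))
  · haveI := hc (B (e.symm j).1) (e.symm j).2
    exact inferInstanceAs (Flat (_ ≫ _))
  · obtain ⟨z', hz', hzz⟩ := Set.mem_iUnion₂.1 (hT (Set.mem_univ z))
    obtain ⟨k, w, hw⟩ := hcov (B z') (r z' ⟨z, hzz⟩)
    obtain ⟨x, -, hx⟩ := Scheme.exists_preimage_of_isPullback
      (IsPullback.of_hasPullback (c (B z') k) (r z')) w ⟨z, hzz⟩ hw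
    obtain ⟨j, hj⟩ := e.symm.surjective ⟨⟨z', hz'⟩, k⟩
    refine ⟨j, ?_⟩
    show z ∈ Set.range (q (e.symm j)).left
    rw [hj]
    exact ⟨x, (Scheme.Hom.comp_apply _ _ x).trans (congrArg (P z').ι hx)⟩
  · beta_reduce
    generalize e.symm j = k
    let l : Q k ⟶ W (B k.1) k.2 := Over.homMk (pullback.fst (c (B k.1) k.2) (r k.1)) (by
      rw [← Over.w (g (B k.1) k.2), ← hcg, ← Category.assoc, ← Category.assoc, pullback.condition,
        Category.assoc, Category.assoc]
      change pullback.snd _ _ ≫ h.left.resLE _ _ (hPB _) ≫ _ ≫ Y.hom = pullback.snd _ _ ≫ _ ≫ Z.hom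
      rw [Scheme.Hom.resLE_comp_ι_assoc, Over.w h])
    refine ⟨⟨B k.1, k.2⟩, (yon S).map l, ?_⟩
    rw [← Functor.map_comp, ← Functor.map_comp]
    congr 1
    refine Over.OverMorphism.ext ?_
    simp only [l, q, Over.comp_left, Over.homMk_left, Category.assoc, ← hcg, pullback.condition_assoc]
    rw [Scheme.Hom.resLE_comp_ι]

/-- An algebraic space is an fpqc sheaf. -/
theorem isSheaf_fpqc (X : Space S) : Presheaf.IsSheaf (Scheme.fpqcTopology.over S) X.obj.obj := by
  rw [isSheaf_iff_isSheaf_of_type]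
  change Presieve.IsSheaf (Scheme.fpqcPrecoverage.toGrothendieck.over S) X.obj.obj
  rw [CategoryTheory.over_toGrothendieck_eq_toGrothendieck_comap_forget, Precoverage.isSheaf_toGrothendieck_iff]
  intro T Y f R hR x hx
  obtain ⟨ι, W, g, hg, hcov⟩ := exists_fpqcFamily f hR
  let b₀ : ∀ i, (yon S).obj (W i) ⟶ X.obj := fun i => (J S).uliftYonedaEquiv.symm (x (g i) (hg i))
  obtain ⟨b, hb⟩ := FpqcSheaf.exists_desc X.property hcov b₀ fun V i i' l' l'' e => by
    obtain ⟨l₁, rfl⟩ := (yon S).map_surjective l'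
    obtain ⟨l₂, rfl⟩ := (yon S).map_surjective l''
    apply (J S).uliftYonedaEquiv.injective
    rw [equiv_comp, equiv_comp, Equiv.apply_symm_apply, Equiv.apply_symm_apply]
    refine hx l₁ l₂ (hg i) (hg i') ((yon S).map_injective ?_)
    rw [Functor.map_comp, Functor.map_comp, e]
  refine ⟨(J S).uliftYonedaEquiv b, fun A a ha => ?_, fun b' hb' => ?_⟩
  · rw [← equiv_comp, ← Equiv.eq_symm_apply]
    refine hom_ext_of_fpqc X.property.diag _ _ fun Z j hZ => ?_
    obtain ⟨m, Q, q, hQ, hq, hs, hl⟩ := hcov.2 Z hZ ((yon S).map (j ≫ a))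
    refine ⟨m, Q, q, hQ, hq, hs, fun k => ?_⟩
    obtain ⟨i, l', hl⟩ := hl k
    obtain ⟨l, rfl⟩ := (yon S).map_surjective l'
    have e : l ≫ g i = (q k ≫ j) ≫ a := (yon S).map_injective (by
      rw [Functor.map_comp, hl]; simp)
    apply (J S).uliftYonedaEquiv.injective
    rw [← Category.assoc, ← Functor.map_comp, ← e, Functor.map_comp, Category.assoc, hb i, equiv_comp, equiv_comp,
      Equiv.apply_symm_apply, Equiv.apply_symm_apply]
    exact hx l (q k ≫ j) (hg i) ha e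
  · rw [← Equiv.symm_apply_eq]
    refine FpqcSheaf.hom_ext_of_isFpqcCover X.property hcov fun i => ?_
    apply (J S).uliftYonedaEquiv.injective
    rw [hb i, equiv_comp, Equiv.apply_symm_apply, Equiv.apply_symm_apply]
    exact hb' (g i) (hg i)

end Groth.Agent.H12AlgSp.Fpqc
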